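import Cfsg.Agent.H203.LSDef
import Cfsg.Agent.H999.IF.EngB

/-!
# S5719: the permutation module on the fixed points (helper809)

`card_le_index`: `D` acts on `D / B`; if `c` is a linear character of the normal subgroup `E` of `D`, trivial on
`E ∩ B`, then `c` has at most `|D : B|` conjugates under `D`.
-/

set_option autoImplicit false
set_option linter.unusedSectionVars false

namespace Cfsg.Agent.H809.IFW

open Subgroup

/-- A linear character `c` of `E` which is trivial on `E ∩ B` has at most `|D : B|` conjugates under `D`. -/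
theorem card_le_index {D : Type*} [Group D] [Finite D] (B E : Subgroup D) (hE : ∀ d : D, ∀ e ∈ E, d⁻¹ * e * d ∈ E)
    (c : D → ℂ) (hc : ∀ x ∈ E, ∀ y ∈ E, c (x * y) = c x * c y) (hc1 : ∀ x ∈ E, x ∈ B → c x = 1)
    {ι : Type*} [Finite ι] (d : ι → D)
    (hd : ∀ i j, (∀ e ∈ E, c ((d i)⁻¹ * e * d i) = c ((d j)⁻¹ * e * d j)) → i = j) :
    Nat.card ι ≤ B.index := by
  classical
  haveI := Fintype.ofFinite D
  haveI := Fintype.ofFinite (D ⧸ B)
  haveI := Fintype.ofFinite E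
  have hone : c 1 = 1 := hc1 1 E.one_mem B.one_mem
  have hinv : ∀ x ∈ E, c x⁻¹ * c x = 1 := by
    intro x hx
    rw [← hc _ (E.inv_mem hx) _ hx, inv_mul_cancel, hone]
  let v0 : D ⧸ B → ℂ := fun x => ∑ e : E, c e * (if x = ((e : D) : D ⧸ B) then 1 else 0)
  have hv0 : ∀ a ∈ E, ∀ x : D ⧸ B, v0 (a⁻¹ • x) = c a⁻¹ * v0 x := by
    intro a ha x
    change ∑ e : E, c e * (if a⁻¹ • x = ((e : D) : D ⧸ B) then 1 else 0) =
      c a⁻¹ * ∑ e : E, c e * (if x = ((e : D) : D ⧸ B) then 1 else 0)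
    rw [Finset.mul_sum]
    refine Fintype.sum_equiv (Equiv.mulLeft (⟨a, ha⟩ : E)) _ _ ?_
    intro e
    have h1 : ((Equiv.mulLeft (⟨a, ha⟩ : E) e : E) : D) = a * e := rfl
    rw [h1, ← mul_assoc, ← hc _ (E.inv_mem ha) _ (E.mul_mem ha e.2), inv_mul_cancel_left]
    congr 1
    have h2 : (((a * (e : D) : D)) : D ⧸ B) = a • (((e : D) : D ⧸ B)) := rfl
    rw [h2]
    by_cases h : x = a • (((e : D) : D ⧸ B))
    · rw [if_pos h, if_pos (by rw [h, inv_smul_smul])]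
    · rw [if_neg h, if_neg (fun h' => h (by rw [← h', smul_inv_smul]))]
  have hv1 : v0 ((1 : D) : D ⧸ B) ≠ 0 := by
    have h1 : v0 ((1 : D) : D ⧸ B) = ∑ e : E, (if (e : D) ∈ B then (1 : ℂ) else 0) := by
      refine Finset.sum_congr rfl fun e _ => ?_
      by_cases h : (e : D) ∈ B
      · have h2 : ((1 : D) : D ⧸ B) = ((e : D) : D ⧸ B) := QuotientGroup.eq.2 (by rwa [inv_one, one_mul])
        rw [if_pos h, if_pos h2, hc1 _ e.2 h, mul_one]
      · have h2 : ¬ ((1 : D) : D ⧸ B) = ((e : D) : D ⧸ B) := by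
          intro h3
          apply h
          have := QuotientGroup.eq.1 h3
          rwa [inv_one, one_mul] at this
        rw [if_neg h, if_neg h2, mul_zero]
    rw [h1, Finset.sum_boole]
    have h2 : 0 < (Finset.univ.filter fun e : E => (e : D) ∈ B).card :=
      Finset.card_pos.2 ⟨1, Finset.mem_filter.2 ⟨Finset.mem_univ _, B.one_mem⟩⟩
    exact_mod_cast h2.ne'
  let f : E → ((D ⧸ B → ℂ) →ₗ[ℂ] (D ⧸ B → ℂ)) := fun e =>
    { toFun := fun φ x => φ ((e : D)⁻¹ • x)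
      map_add' := fun _ _ => rfl
      map_smul' := fun _ _ => rfl }
  have h3 := Cfsg.Agent.H203.LS.card_le_of_weights (k := ℂ) (V := D ⧸ B → ℂ) (ι := ι) (J := E) f
    (fun i x => v0 ((d i)⁻¹ • x)) (fun i e => c ((d i)⁻¹ * (e : D)⁻¹ * d i)) ?_ ?_ ?_
  · rw [Module.finrank_fintype_fun_eq_card] at h3
    rw [Subgroup.index, Nat.card_eq_fintype_card (α := D ⧸ B)]
    exact h3
  · intro i h
    apply hv1
    have h4 := congrFun h (d i • ((1 : D) : D ⧸ B))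
    have h5 : v0 ((d i)⁻¹ • d i • ((1 : D) : D ⧸ B)) = 0 := h4
    rwa [inv_smul_smul] at h5
  · intro i e
    funext x
    change v0 ((d i)⁻¹ • (e : D)⁻¹ • x) = c ((d i)⁻¹ * (e : D)⁻¹ * d i) * v0 ((d i)⁻¹ • x)
    have h4 := hv0 _ (hE (d i) e e.2) ((d i)⁻¹ • x)
    have h5 : ((d i)⁻¹ * (e : D) * d i)⁻¹ = (d i)⁻¹ * (e : D)⁻¹ * d i := by group
    rw [h5] at h4
    rw [← h4]
    congr 1
    rw [smul_smul, smul_smul]
    congr 1
    group
  · intro i j hij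
    apply hd
    intro e he
    have h4 := congrFun hij (⟨e, he⟩⁻¹ : E)
    have h5 : c ((d i)⁻¹ * (e⁻¹)⁻¹ * d i) = c ((d j)⁻¹ * (e⁻¹)⁻¹ * d j) := h4
    rwa [inv_inv] at h5

/-- The same in a group `T` with subgroups `A` and `D`: `D` normalises `E ≤ D`. -/
theorem card_le_relIndex {T : Type*} [Group T] [Finite T] (A D E : Subgroup T) (hED : E ≤ D)
    (hE : ∀ d ∈ D, ∀ e ∈ E, d⁻¹ * e * d ∈ E)
    (c : T → ℂ) (hc : ∀ x ∈ E, ∀ y ∈ E, c (x * y) = c x * c y) (hc1 : ∀ x ∈ E, x ∈ A → c x = 1)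
    {ι : Type*} [Finite ι] (d : ι → T) (hdD : ∀ i, d i ∈ D)
    (hd : ∀ i j, (∀ e ∈ E, c ((d i)⁻¹ * e * d i) = c ((d j)⁻¹ * e * d j)) → i = j) :
    Nat.card ι ≤ A.relIndex D := by
  refine card_le_index (A.subgroupOf D) (E.subgroupOf D) ?_ (fun x => c x) ?_ ?_ (fun i => ⟨d i, hdD i⟩) ?_
  · rintro ⟨d, hd⟩ ⟨e, he⟩ h
    exact hE d hd e h
  · rintro ⟨x, hx⟩ h ⟨y, hy⟩ h'
    exact hc x h y h'
  · rintro ⟨x, hx⟩ h h'
    exact hc1 x h h'
  · intro i j hij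
    refine hd i j fun e he => ?_
    exact hij ⟨e, hED he⟩ he

end Cfsg.Agent.H809.IFW
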